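import Cfsg.Agent.RootSub.SpTransv
import Cfsg.Agent.Classical.SLExtra
import Cfsg.Prelude.Def_SporadicB

/-!
# The symplectic transvections over the field with two elements
-/

set_option autoImplicit false
set_option linter.unusedSectionVars false
set_option linter.style.haveILetI false

open Matrix
open Cfsg Cfsg.Lib.RootSub

namespace Cfsg.Lib.SpTwo

variable {n : ℕ}

set_option quotPrecheck false in
local notation "Sp₂" => ↥(Matrix.symplecticGroup (Fin n) (ZMod 2))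
local notation "Vec₂" => Fin n ⊕ Fin n → ZMod 2
local notation "J₂" => Matrix.J (Fin n) (ZMod 2)

theorem two_eq_one {a : ZMod 2} (h : a ≠ 0) : a = 1 := by revert a; decide

theorem dot_comm (p q : Vec₂) : (J₂ *ᵥ q) ⬝ᵥ p = (J₂ *ᵥ p) ⬝ᵥ q := by
  rw [J_dot_swap, CharTwo.neg_eq]

theorem exists_tv (v : Vec₂) : ∃ g : Sp₂, spCoe n _ g = tmat v (J₂ *ᵥ v) 1 :=
  ⟨(Cfsg.Lib.Classical.sympEquiv n _).symm
    (Cfsg.Lib.Classical.sympT (Cfsg.Lib.Classical.sympBilin_isAlt n _) v 1),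
    (Cfsg.Lib.Classical.sympTransvection_eq v 1).symm⟩

/-- The symplectic transvection with given centre. -/
noncomputable def tv (v : Vec₂) : Sp₂ := Classical.choose (exists_tv v)

theorem tv_coe (v : Vec₂) : spCoe n _ (tv v) = tmat v (J₂ *ᵥ v) 1 := Classical.choose_spec (exists_tv v)

theorem tv_sq (v : Vec₂) : tv v * tv v = 1 := spCoe_injective n (by
  rw [map_mul, map_one, tv_coe, tmat_add (J_dot_self v), CharTwo.add_self_eq_zero, tmat_zero])

theorem tv_conj (g : Sp₂) (v : Vec₂) : g * tv v * g⁻¹ = tv (spCoe n _ g *ᵥ v) := spCoe_injective n (by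
  rw [map_mul, map_mul, tv_coe, tv_coe, tmat, tmat, one_smul, one_smul, mul_add, mul_one, add_mul, e_cancel,
    mul_outer_mul, sp_vecMul_inv])

theorem tv_apply (v x : Vec₂) : spCoe n _ (tv v) *ᵥ x = x + ((J₂ *ᵥ v) ⬝ᵥ x) • v := by
  rw [tv_coe, tmat, one_smul, add_mulVec, one_mulVec, vecMulVec_mulVec]
  simp

theorem tv_ne_one {v : Vec₂} (hv : v ≠ 0) : tv v ≠ 1 := fun h => by
  have h1 := congrArg (spCoe n _) h
  rw [tv_coe, map_one, ← tmat_zero v (J₂ *ᵥ v)] at h1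
  exact one_ne_zero (tmat_inj hv (J_mulVec_ne_zero hv) h1)

theorem orderOf_tv {v : Vec₂} (hv : v ≠ 0) : orderOf (tv v) = 2 :=
  orderOf_eq_prime (by rw [pow_two, tv_sq]) (tv_ne_one hv)

theorem pair (v w : Vec₂) : (tv v * tv w) ^ 2 = 1 ∨ (tv v * tv w) ^ 3 = 1 := by
  by_cases h : (J₂ *ᵥ v) ⬝ᵥ w = 0
  · left
    have hc : Commute (tv v) (tv w) := spCoe_injective n (by
      rw [map_mul, map_mul, tv_coe, tv_coe]
      exact tmat_comm h (by rw [dot_comm, h]) 1 1)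
    rw [hc.mul_pow, pow_two, pow_two, tv_sq, tv_sq, one_mul]
  · right
    have h1 := two_eq_one h
    have e1 : tv v * tv w * tv v = tv (v + w) := by
      conv_lhs => arg 2; rw [← inv_eq_of_mul_eq_one_right (tv_sq v)]
      rw [tv_conj, tv_apply, h1, one_smul, add_comm]
    have e2 : tv w * tv v * tv w = tv (v + w) := by
      conv_lhs => arg 2; rw [← inv_eq_of_mul_eq_one_right (tv_sq w)]
      rw [tv_conj, tv_apply, dot_comm, h1, one_smul]
    calc (tv v * tv w) ^ 3 = (tv v * tv w * tv v) * (tv w * tv v * tv w) := by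
          simp [pow_succ, mul_assoc]
      _ = 1 := by rw [e1, e2, tv_sq]

theorem rank_iff (g : Sp₂) :
    ((g : Matrix (Fin n ⊕ Fin n) (Fin n ⊕ Fin n) (ZMod 2)) - 1).rank = 1 ↔ ∃ v : Vec₂, v ≠ 0 ∧ g = tv v := by
  constructor
  · intro hg
    obtain ⟨v, w, hv, hw, hM⟩ := Cfsg.Lib.Classical.exists_vecMulVec_of_rank_eq_one hg
    refine ⟨v, hv, spCoe_injective n ?_⟩
    have hJ := J_mulVec_ne_zero hv
    have hgx : ∀ x, spCoe n _ g *ᵥ x = x + (w ⬝ᵥ x) • v := fun x => by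
      show (g : Matrix (Fin n ⊕ Fin n) (Fin n ⊕ Fin n) (ZMod 2)) *ᵥ x = _
      rw [← sub_add_cancel (g : Matrix (Fin n ⊕ Fin n) (Fin n ⊕ Fin n) (ZMod 2)) 1, hM, add_mulVec,
        one_mulVec, vecMulVec_mulVec, add_comm]
      simp
    have hform : ∀ x y, (J₂ *ᵥ (spCoe n _ g *ᵥ x)) ⬝ᵥ (spCoe n _ g *ᵥ y) = (J₂ *ᵥ x) ⬝ᵥ y := fun x y => by
      rw [dotProduct_mulVec, ← mulVec_transpose, mulVec_mulVec, mulVec_mulVec,
        show (spCoe n _ g)ᵀ * J₂ * spCoe n _ g = J₂ from SymplecticGroup.mem_iff'.mp g.2]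
    have key : ∀ x y, (w ⬝ᵥ x) * ((J₂ *ᵥ v) ⬝ᵥ y) + (w ⬝ᵥ y) * ((J₂ *ᵥ v) ⬝ᵥ x) = 0 := fun x y => by
      have h := hform x y
      simp only [hgx, mulVec_add, mulVec_smul, add_dotProduct, dotProduct_add, smul_dotProduct, dotProduct_smul,
        smul_eq_mul, J_dot_self, mul_zero, add_zero] at h
      rw [dot_comm v x] at h
      linear_combination h
    obtain ⟨x₀, hx₀⟩ : ∃ x, (J₂ *ᵥ v) ⬝ᵥ x ≠ 0 := by
      by_contra! hall
      exact hJ (dotProduct_eq_zero _ hall)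
    have hwv : w = J₂ *ᵥ v := by
      refine dotProduct_eq _ _ fun y => ?_
      have h := key x₀ y
      rw [two_eq_one hx₀, mul_one, CharTwo.add_eq_zero] at h
      rw [← h]
      have hw0 : w ⬝ᵥ x₀ ≠ 0 := fun h0 => hw (dotProduct_eq_zero _ fun z => by
        have h' := key x₀ z
        rw [two_eq_one hx₀, h0, zero_mul, zero_add, mul_one] at h'
        exact h')
      rw [two_eq_one hw0, one_mul]
    rw [tv_coe, tmat, one_smul, ← hwv, ← hM]
    show _ = 1 + ((g : Matrix (Fin n ⊕ Fin n) (Fin n ⊕ Fin n) (ZMod 2)) - 1)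
    rw [add_sub_cancel]
    rfl
  · rintro ⟨v, hv, rfl⟩
    have h : ((tv v : Sp₂) : Matrix (Fin n ⊕ Fin n) (Fin n ⊕ Fin n) (ZMod 2)) - 1 = vecMulVec v (J₂ *ᵥ v) := by
      show spCoe n _ (tv v) - 1 = _
      rw [tv_coe, tmat, one_smul, add_sub_cancel_left]
    rw [h]
    refine le_antisymm (rank_vecMulVec_le _ _) (Nat.one_le_iff_ne_zero.mpr fun h0 => ?_)
    exact outer_ne_zero hv (J_mulVec_ne_zero hv) (by
      rw [Matrix.rank] at h0
      have h1 : LinearMap.range (vecMulVec v (J₂ *ᵥ v)).mulVecLin = ⊥ := Submodule.finrank_eq_zero.mp h0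
      rw [LinearMap.range_eq_bot] at h1
      exact Matrix.toLin'.injective (by rw [map_zero]; exact h1))

theorem three_transposition (hn : 1 ≤ n) :
    IsThreeTranspositionClass
      {g : Sp₂ | ((g : Matrix (Fin n ⊕ Fin n) (Fin n ⊕ Fin n) (ZMod 2)) - 1).rank = 1} := by
  obtain ⟨v₀, hv₀⟩ : ∃ v : Vec₂, v ≠ 0 := ⟨Pi.single (Sum.inl ⟨0, hn⟩) 1, by simp⟩
  refine ⟨⟨fun d hd => ?_, fun d hd e he => ?_⟩, ⟨tv v₀, (rank_iff _).mpr ⟨_, hv₀, rfl⟩, ?_⟩, ?_⟩
  · obtain ⟨v, hv, rfl⟩ := (rank_iff d).mp hd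
    exact orderOf_tv hv
  · obtain ⟨v, -, rfl⟩ := (rank_iff d).mp hd
    obtain ⟨w, -, rfl⟩ := (rank_iff e).mp he
    exact pair v w
  · ext g
    rw [Set.mem_ofPred_eq, rank_iff]
    show _ ↔ IsConj (tv v₀) g
    rw [isConj_iff]
    constructor
    · rintro ⟨v, hv, rfl⟩
      obtain ⟨h, hh⟩ := Cfsg.Lib.Classical.sympIsom_transitive (Cfsg.Lib.Classical.sympBilin_isAlt n _)
        (Cfsg.Lib.Classical.sympBilin_nondegenerate n _) hv₀ hv
      refine ⟨(Cfsg.Lib.Classical.sympEquiv n _).symm h, ?_⟩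
      rw [tv_conj, show spCoe n _ ((Cfsg.Lib.Classical.sympEquiv n _).symm h) *ᵥ v₀ = v from
        (Cfsg.Lib.Classical.sympEquiv_symm_mulVec h v₀).trans hh]
    · rintro ⟨h, rfl⟩
      refine ⟨_, ?_, tv_conj h v₀⟩
      intro h0
      have := congrArg (spCoe n _ h⁻¹ *ᵥ ·) h0
      simp only [mulVec_mulVec, e_cancel', one_mulVec, mulVec_zero] at this
      exact hv₀ this
  · rw [eq_top_iff, ← Cfsg.Lib.Classical.closure_sympTransvection_eq_top n, Subgroup.closure_le]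
    rintro g ⟨w, c, hg⟩
    by_cases h0 : w = 0 ∨ c = 0
    · have : g = 1 := Subtype.ext (by rcases h0 with h0 | h0 <;> simp [hg, Cfsg.sympTransvection, h0])
      rw [this]
      exact one_mem _
    push Not at h0
    refine Subgroup.subset_closure ((rank_iff g).mpr ⟨w, h0.1, spCoe_injective n ?_⟩)
    rw [tv_coe]
    show (g : Matrix (Fin n ⊕ Fin n) (Fin n ⊕ Fin n) (ZMod 2)) = _
    rw [hg, two_eq_one h0.2]
    rfl

end Cfsg.Lib.SpTwo
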